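import Groth.Agent.HilbD.K821.PluckSheaf
import Groth.Agent.Ega1.QcqsPush
import Groth.Agent.Fdesc.StructMod
import Mathlib.AlgebraicGeometry.Morphisms.Flat

/-!
# Generators of the determinant of a finite locally free family

`gsec π z : Γ(Λ^d π_* O_Z, V)` for `z : Fin d → Γ(Z, π⁻¹ V)`:
* `isGen_gsec`: if `V` is affine and `z` is a basis, `gsec π z` is a generator;
* `rBas_of_isGen`: conversely, if there is a basis.
-/

set_option autoImplicit false
universe u

open CategoryTheory CategoryTheory.Limits AlgebraicGeometry Opposite TopologicalSpace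

namespace K821.GenCrit

open Groth.Agent.Sga67.Sec Groth.Agent.Krr.H495.ExtSemi Groth.Agent.Krr.H495.ExtPre
open Groth.Agent.Picfga.HilbChartAlg (RBas)
open Groth.Agent.Picfga.HilbBas
open K821.PluckAlg K821.Retr K821.PluckSheaf
open Groth.Agent.Fdesc.LocGen (IsGen ores ores_ext ores_glue res_ext)

section gen

variable {X : Scheme.{u}} {M : X.Modules} {V : X.Opens} (e : Γ(M, V))
  (h : ∀ (W : X.Opens) (hW : W ≤ V), IsAffineOpen W →
    Function.Bijective (fun a : Γ(X, W) => a • Groth.Agent.Fdesc.LocGen.res M hW e))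

/-- The affine opens contained in `W`. -/
abbrev AffIn (W : X.Opens) := {U : X.Opens // IsAffineOpen U ∧ U ≤ W}

theorem le_iSup_affIn (W : X.Opens) : W ≤ ⨆ U : AffIn W, U.1 := by
  intro x hx
  obtain ⟨U, hU, hxU, hle⟩ := exists_isAffineOpen_mem_and_subset (X := X) (x := x) (U := W) hx
  exact Opens.mem_iSup.2 ⟨⟨U, hU, hle⟩, hxU⟩

include h in
theorem injective_of_affine {W : X.Opens} (hW : W ≤ V) :
    Function.Injective (fun a : Γ(X, W) => a • Groth.Agent.Fdesc.LocGen.res M hW e) := by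
  intro a b hab
  refine ores_ext (fun U : AffIn W => U.1) (fun U => U.2.2) (le_iSup_affIn W) fun U => ?_
  apply (h U.1 (U.2.2.trans hW) U.2.1).1
  have := congrArg (Groth.Agent.Fdesc.LocGen.res M U.2.2) hab
  simpa using this

include h in
theorem isGen_of_affine : IsGen e := by
  intro W hW
  refine ⟨injective_of_affine e h hW, fun m => ?_⟩
  choose a ha using fun U : AffIn W =>
    (h U.1 (U.2.2.trans hW) U.2.1).2 (Groth.Agent.Fdesc.LocGen.res M U.2.2 m)
  simp only at ha
  obtain ⟨t, ht⟩ := ores_glue (V := W) (fun U : AffIn W => U.1) (fun U => U.2.2) (le_iSup_affIn W) a (by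
    intro i j
    apply injective_of_affine e h (W := i.1 ⊓ j.1) (inf_le_left.trans (i.2.2.trans hW))
    have h1 := congrArg (Groth.Agent.Fdesc.LocGen.res M (inf_le_left : i.1 ⊓ j.1 ≤ i.1)) (ha i)
    have h2 := congrArg (Groth.Agent.Fdesc.LocGen.res M (inf_le_right : i.1 ⊓ j.1 ≤ j.1)) (ha j)
    simp only [Groth.Agent.Fdesc.LocGen.res_smul, Groth.Agent.Fdesc.LocGen.res_res] at h1 h2 ⊢
    rw [h1, h2])
  refine ⟨t, ?_⟩
  refine res_ext M (fun U : AffIn W => U.1) (fun U => U.2.2) (le_iSup_affIn W) fun U => ?_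
  simp only [Groth.Agent.Fdesc.LocGen.res_smul, Groth.Agent.Fdesc.LocGen.res_res, ht]
  exact ha U

end gen

section sq

variable {V U V' U' : Scheme.{u}}

/-- Sections of an affine morphism over affine opens: pushout. -/
theorem isPushout_appLE {g' : V' ⟶ V} {h' : V' ⟶ U'} {h : V ⟶ U} {g : U' ⟶ U}
    (sq : IsPullback g' h' h g) [IsAffineHom h] {W : U.Opens} {W' : U'.Opens}
    (hW : IsAffineOpen W) (hW' : IsAffineOpen W') (e : W' ≤ g ⁻¹ᵁ W)
    (e' : h' ⁻¹ᵁ W' ≤ g' ⁻¹ᵁ (h ⁻¹ᵁ W)) :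
    IsPushout (g.appLE W W' e) (h.app W) (h'.app W')
      (g'.appLE (h ⁻¹ᵁ W) (h' ⁻¹ᵁ W') e') := by
  have hUY : h' ⁻¹ᵁ W' = g' ⁻¹ᵁ (h ⁻¹ᵁ W) ⊓ h' ⁻¹ᵁ W' := (inf_eq_right.2 e').symm
  have h1 := isIso_pushoutSection_of_isAffineOpen sq (US := W) (UT := W') (UX := h ⁻¹ᵁ W) e le_rfl
    hUY hW hW' (hW.preimage h)
  have h2 := ((isIso_pushoutSection_iff ..).1 h1).flip
  rw [Scheme.Hom.appLE_eq_app, Scheme.Hom.appLE_eq_app] at h2
  exact h2

end sq

variable {Z T : Scheme.{u}} (π : Z ⟶ T) {d : ℕ}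

theorem isPushout_res [IsAffineHom π] {V W : T.Opens} (hV : IsAffineOpen V) (hW : IsAffineOpen W)
    (h : W ≤ V) : IsPushout (π.app V) (T.presheaf.map (homOfLE h).op)
      (Z.presheaf.map (homOfLE (π.preimage_mono h)).op) (π.app W) := by
  have sq : IsPullback (𝟙 Z) π π (𝟙 T) := IsPullback.of_horiz_isIso ⟨by simp⟩
  have h1 := isPushout_appLE sq hV hW (by simpa using h) (by simpa using π.preimage_mono h)
  have h2 := h1.flip
  convert h2 using 1
  · simp only [Scheme.Hom.appLE, Scheme.Hom.id_app]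
    exact (Category.id_comp _).symm
  · simp only [Scheme.Hom.appLE, Scheme.Hom.id_app]
    exact (Category.id_comp _).symm

theorem rBas_res [IsAffineHom π] {V W : T.Opens} (hV : IsAffineOpen V) (hW : IsAffineOpen W)
    (h : W ≤ V) (z : Fin d → Γ(Z, π ⁻¹ᵁ V)) (hz : RBas (π.app V).hom z) :
    RBas (π.app W).hom (fun i => ores (π.preimage_mono h) (z i)) :=
  rBas_of_isPushout z (isPushout_res π hV hW h) hz

theorem isBas_toF {V : T.Opens} (z : Fin d → Γ(Z, π ⁻¹ᵁ V)) :
    IsBas Γ(T, V) (fun i => toF π V (z i)) ↔ RBas (π.app V).hom z := by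
  have h : ∀ a : Fin d → Γ(T, V), (∑ i, a i • toF π V (z i)) =
      toF π V (∑ i, (π.app V).hom (a i) * z i) := by
    intro a
    rw [map_sum]
    rfl
  unfold IsBas RBas
  simp only [h]
  exact Iff.rfl

/-- The section of the determinant attached to `d` functions. -/
noncomputable def gsec {V : T.Opens} (z : Fin d → Γ(Z, π ⁻¹ᵁ V)) : Γ(ext d (FO π), V) :=
  eta' d (FO π) V (exteriorPower.ιMulti _ d (fun i => toF π V (z i)))

theorem res_gsec {V W : T.Opens} (h : W ≤ V) (z : Fin d → Γ(Z, π ⁻¹ᵁ V)) :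
    Groth.Agent.Fdesc.LocGen.res (ext d (FO π)) h (gsec π z) =
      gsec π (fun i => ores (π.preimage_mono h) (z i)) := by
  have h1 := eta'_eres d (FO π) h (exteriorPower.ιMulti _ d (fun i => toF π V (z i)))
  rw [eres_ιMulti] at h1
  exact h1.symm

variable [IsAffineHom π]

theorem isQCoh_FO : Coh.IsQCoh (FO π) := by
  have := Groth.Agent.Fdesc.StructMod.isQCoh_structureModule (X := Z)
  exact Groth.Agent.Ega1.QcqsPush.isQCoh_pushforward π _ this

theorem bij_gsec {V : T.Opens} (hV : IsAffineOpen V) (z : Fin d → Γ(Z, π ⁻¹ᵁ V))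
    (hz : RBas (π.app V).hom z) : Function.Bijective (fun a : Γ(T, V) => a • gsec π z) := by
  have h1 := ((isBas_toF π z).2 hz).gen
  have h2 := Groth.Agent.Dual.H366.ExtQCoh.bijective_eta' (isQCoh_FO π) hV d
  have h3 : (fun a : Γ(T, V) => a • gsec π z) = (eta' d (FO π) V) ∘
      (fun a => a • exteriorPower.ιMulti _ d (fun i => toF π V (z i))) := by
    funext a
    exact (map_smul (eta' d (FO π) V) a _).symm
  rw [h3]
  exact h2.comp h1

theorem isGen_gsec {V : T.Opens} (hV : IsAffineOpen V) (z : Fin d → Γ(Z, π ⁻¹ᵁ V))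
    (hz : RBas (π.app V).hom z) : IsGen (gsec π z) :=
  isGen_of_affine _ fun W hW hWa => by
    rw [res_gsec]
    exact bij_gsec π hWa _ (rBas_res π hV hWa hW z hz)

theorem rBas_of_isGen {V : T.Opens} (hV : IsAffineOpen V) (z w : Fin d → Γ(Z, π ⁻¹ᵁ V))
    (hw : RBas (π.app V).hom w) (h : IsGen (gsec π z)) : RBas (π.app V).hom z := by
  rw [← isBas_toF]
  refine isBas_of_gen ((isBas_toF π w).2 hw) fun x => ?_
  obtain ⟨a, ha⟩ := h.exists_eq (eta' d (FO π) V x)
  refine ⟨a, (Groth.Agent.Dual.H366.ExtQCoh.bijective_eta' (isQCoh_FO π) hV d).1 ?_⟩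
  refine Eq.trans ?_ ha.symm
  exact map_smul (eta' d (FO π) V) a _

/-- Coordinates are ratios of generators. -/
theorem coord_eq {V : T.Opens} (hV : IsAffineOpen V) (z : Fin d → Γ(Z, π ⁻¹ᵁ V))
    (hz : RBas (π.app V).hom z) (a : Fin d → Γ(T, V)) (i : Fin d) (a' : Γ(T, V))
    (ha : gsec π (Function.update z i (∑ j, (π.app V).hom (a j) * z j)) = a' • gsec π z) : a' = a i := by
  refine ((isBas_toF π z).2 hz).coord_eq a i a' ?_
  apply (Groth.Agent.Dual.H366.ExtQCoh.bijective_eta' (isQCoh_FO π) hV d).1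
  have h1 : (fun j => toF π V (Function.update z i (∑ j, (π.app V).hom (a j) * z j) j)) =
      Function.update (fun i => toF π V (z i)) i (∑ j, a j • toF π V (z j)) := by
    funext k
    rcases eq_or_ne k i with rfl | hk
    · rw [Function.update_self, Function.update_self, map_sum]
      rfl
    · rw [Function.update_of_ne hk, Function.update_of_ne hk]
  have h2 : eta' d (FO π) V (exteriorPower.ιMulti _ d
      (fun j => toF π V (Function.update z i (∑ j, (π.app V).hom (a j) * z j) j))) =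
      a' • eta' d (FO π) V (exteriorPower.ιMulti _ d (fun i => toF π V (z i))) := ha
  rw [h1] at h2
  rw [h2, map_smul]

section good

variable {X S : Scheme.{u}} {f : X ⟶ S} {h : T ⟶ S} [IsAffineHom f]

omit [IsAffineHom π] in
theorem span_aux {P : Scheme.{u}} {fst : P ⟶ X} {snd : P ⟶ T} (sq : IsPullback fst snd f h)
    (i : Z ⟶ P) [IsClosedImmersion i] (w : (i ≫ fst) ≫ f = (i ≫ snd) ≫ h)
    {U : S.Opens} (hU : IsAffineOpen U) {V : T.Opens} (hV : IsAffineOpen V)
    (hVU : V ≤ h ⁻¹ᵁ U) :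
    let _ := ((i ≫ snd).app V).hom.toAlgebra;
      Submodule.span Γ(T, V) (Set.range (rho w hVU).hom) = ⊤ := by
  have e' : snd ⁻¹ᵁ V ≤ fst ⁻¹ᵁ (f ⁻¹ᵁ U) := by
    rw [← Scheme.Hom.comp_preimage, sq.w, Scheme.Hom.comp_preimage]
    exact snd.preimage_mono hVU
  have hpo := (isPushout_appLE sq hU hV hVU e').flip
  have h1 := Groth.Agent.Picfga.HilbAff.span_range_of_isPushout hpo
  have hsnd : IsAffineHom snd := MorphismProperty.of_isPullback sq inferInstance
  have hi : Function.Surjective (i.app (snd ⁻¹ᵁ V)).hom := i.app_surjective _ (hV.preimage snd)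
  have h2 := Groth.Agent.Picfga.HilbAff.span_range_comp (i.app (snd ⁻¹ᵁ V)) hi h1
  have e1 : fst.appLE (f ⁻¹ᵁ U) (snd ⁻¹ᵁ V) e' ≫ i.app (snd ⁻¹ᵁ V) = rho w hVU := by
    rw [rho, Scheme.Hom.comp_appLE, Scheme.Hom.appLE, Category.assoc, Scheme.Hom.naturality,
      Scheme.Hom.appLE]
    rfl
  rw [e1] at h2
  exact h2

/-- A generating family over the base restricts to a generating family of the universal family. -/
theorem span_eq_top {p : Z ⟶ X} (w : p ≫ f = π ≫ h) [IsClosedImmersion (pullback.lift p π w)]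
    {U : S.Opens} (hU : IsAffineOpen U) {V : T.Opens} (hV : IsAffineOpen V)
    (hVU : V ≤ h ⁻¹ᵁ U) {ι : Type*} (g : ι → Γ(X, f ⁻¹ᵁ U))
    (hg : let _ := (f.app U).hom.toAlgebra; Submodule.span Γ(S, U) (Set.range g) = ⊤) :
    let _ := (π.app V).hom.toAlgebra;
      Submodule.span Γ(T, V) (Set.range (fun i => (rho w hVU).hom (g i))) = ⊤ := by
  have h1 : let _ := (π.app V).hom.toAlgebra;
      Submodule.span Γ(T, V) (Set.range (rho w hVU).hom) = ⊤ := by
    have hi := span_aux (IsPullback.of_hasPullback f h) (pullback.lift p π w)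
      (by rw [Category.assoc, Category.assoc, pullback.condition]) hU hV hVU
    have e1 : pullback.lift p π w ≫ pullback.fst f h = p := pullback.lift_fst _ _ _
    have e2 : pullback.lift p π w ≫ pullback.snd f h = π := pullback.lift_snd _ _ _
    generalize hi1 : pullback.lift p π w = i at hi e1 e2
    subst e1 e2
    exact hi
  algebraize [(f.app U).hom, (π.app V).hom]
  have hg' : Submodule.span Γ(S, U) (Set.range g) = ⊤ := hg
  have h1' : Submodule.span Γ(T, V) (Set.range (rho w hVU).hom) = ⊤ := h1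
  rw [eq_top_iff, ← h1', Submodule.span_le]
  rintro _ ⟨c, rfl⟩
  have hc : c ∈ Submodule.span Γ(S, U) (Set.range g) := by rw [hg']; trivial
  change (rho w hVU).hom c ∈ Submodule.span Γ(T, V) (Set.range (fun i => (rho w hVU).hom (g i)))
  induction hc using Submodule.span_induction with
  | mem y hy =>
    obtain ⟨a, rfl⟩ := hy
    exact Submodule.subset_span ⟨a, rfl⟩
  | zero => rw [map_zero]; exact Submodule.zero_mem _
  | add x y _ _ hx hy => rw [map_add]; exact Submodule.add_mem _ hx hy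
  | smul r x _ hx =>
    have : (rho w hVU).hom (r • x) = (h.appLE U V hVU).hom r • (rho w hVU).hom x := by
      rw [Algebra.smul_def, Algebra.smul_def, map_mul]
      congr 1
      exact congr(($(app_rho w hVU)).hom r)
    rw [this]
    exact Submodule.smul_mem _ _ hx

/-- Locally there is a basis among a generating family. -/
theorem exists_good {p : Z ⟶ X} (w : p ≫ f = π ≫ h) [IsClosedImmersion (pullback.lift p π w)]
    (hdeg : Mor2.IsFinLocFreeOfDeg d π) {U : S.Opens} (hU : IsAffineOpen U)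
    {ι : Type u} (g : ι → Γ(X, f ⁻¹ᵁ U))
    (hg : let _ := (f.app U).hom.toAlgebra; Submodule.span Γ(S, U) (Set.range g) = ⊤)
    (y : T) (hy : y ∈ h ⁻¹ᵁ U) :
    ∃ (b : Fin d → ι) (V : T.Opens) (hV : V ≤ h ⁻¹ᵁ U), IsAffineOpen V ∧ y ∈ V ∧
      Good w hV (fun i => g (b i)) := by
  obtain ⟨V₀, hV₀, hyV₀, hle⟩ := exists_isAffineOpen_mem_and_subset (X := T) (x := y) (U := h ⁻¹ᵁ U) hy
  have hle' : V₀ ≤ h ⁻¹ᵁ U := hle
  have hfin : IsFinite π := hdeg.1.1
  have hflat : Flat π := hdeg.1.2.1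
  have hfp : LocallyOfFinitePresentation π := hdeg.1.2.2
  have sq := K147.AffPull.isPullback_fromSpec π hV₀
  have f1 : IsFinite (Spec.map (π.app V₀)) := MorphismProperty.of_isPullback sq hfin
  have f2 : Flat (Spec.map (π.app V₀)) := MorphismProperty.of_isPullback sq hflat
  have f3 : LocallyOfFinitePresentation (Spec.map (π.app V₀)) := MorphismProperty.of_isPullback sq hfp
  have h1 : (π.app V₀).hom.Finite := (IsFinite.SpecMap_iff _).1 f1
  have h2 : (π.app V₀).hom.Flat := Flat.SpecMap_iff.1 f2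
  have h3 : (π.app V₀).hom.FinitePresentation := (LocallyOfFinitePresentation.SpecMap_iff _).1 f3
  obtain ⟨P, hP⟩ : ∃ P : Spec Γ(T, V₀), hV₀.fromSpec P = y := by
    have : y ∈ Set.range hV₀.fromSpec := by rw [hV₀.range_fromSpec]; exact hyV₀
    exact this
  have hd : (π.app V₀).hom.finrank P = d := by
    rw [← Scheme.Hom.finrank_SpecMap_eq_finrank h1 h2, Scheme.Hom.finrank_of_isPullback _ _ _ _ sq]
    exact hdeg.2 _
  have hspan := span_eq_top π w hU hV₀ hle' g hg
  obtain ⟨b, s, hs, H⟩ := Groth.Agent.Picfga.HilbBas.exists_basis_of_span h1 h2 h3 P hd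
    (fun i : ι => (rho w hle').hom (g i)) hspan
  have hD : T.basicOpen s ≤ V₀ := T.basicOpen_le s
  refine ⟨b, T.basicOpen s, hD.trans hle', hV₀.basicOpen s, ?_, ?_⟩
  · rw [← hP]
    have : P ∈ hV₀.fromSpec ⁻¹ᵁ (T.basicOpen s) := by
      rw [hV₀.fromSpec_preimage_basicOpen]
      exact hs
    exact this
  · have hpo := isPushout_res π hV₀ (hV₀.basicOpen s) hD
    have h4 := H _ _ _ _ _ hpo (RingedSpace.isUnit_res_basicOpen _ s)
    have h5 : ∀ i, (Z.presheaf.map (homOfLE (π.preimage_mono hD)).op).hom ((rho w hle').hom (g (b i))) =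
        (rho w (hD.trans hle')).hom (g (b i)) := fun i => rho_res w hle' hD (g (b i))
    simp only [h5] at h4
    exact h4

end good

end K821.GenCrit
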