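import Mathlib.LinearAlgebra.ExteriorPower.Basis
import Mathlib.LinearAlgebra.Determinant

/-!
# Top exterior powers of free modules and bases

For a module `M` with a basis `m : Fin d → M` and `b : Fin d → M`:
* `ιMulti_eq_det`: `b_1 ∧ … ∧ b_d = det(b) • m_1 ∧ … ∧ m_d`;
* `gen_bijective`: `m_1 ∧ … ∧ m_d` freely generates `⋀^d M`;
* `bijective_of_gen`: if `b_1 ∧ … ∧ b_d` freely generates `⋀^d M` then `b` is a basis;
* `ιMulti_update_sum`: Cramer's rule.
-/

set_option autoImplicit false

namespace K821.PluckAlg

variable {A M : Type*} [CommRing A] [AddCommGroup M] [Module A M] {d : ℕ}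

theorem ιMulti_update_sum (b : Fin d → M) (a : Fin d → A) (i : Fin d) :
    exteriorPower.ιMulti A d (Function.update b i (∑ j, a j • b j)) =
      a i • exteriorPower.ιMulti A d b := by
  rw [AlternatingMap.map_update_sum, Finset.sum_eq_single i]
  · rw [AlternatingMap.map_update_smul, Function.update_eq_self]
  · intro j _ hj
    rw [AlternatingMap.map_update_smul, AlternatingMap.map_update_self _ _ hj.symm, smul_zero]
  · intro h
    exact absurd (Finset.mem_univ i) h

/-- The linear form on `⋀^d M` attached to a basis. -/
noncomputable def form (m : Module.Basis (Fin d) A M) : ⋀[A]^d M →ₗ[A] A :=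
  exteriorPower.alternatingMapLinearEquiv m.det

theorem form_ιMulti (m : Module.Basis (Fin d) A M) (b : Fin d → M) :
    form m (exteriorPower.ιMulti A d b) = m.det b :=
  exteriorPower.alternatingMapLinearEquiv_apply_ιMulti _ _

theorem ιMulti_eq_det (m : Module.Basis (Fin d) A M) (b : Fin d → M) :
    exteriorPower.ιMulti A d b = m.det b • exteriorPower.ιMulti A d m := by
  let g : M [⋀^Fin d]→ₗ[A] (⋀[A]^d M) :=
    (LinearMap.toSpanSingleton A (⋀[A]^d M) (exteriorPower.ιMulti A d m)).compAlternatingMap m.det
  have hg : exteriorPower.ιMulti A d = g := by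
    apply Module.Basis.ext_alternating m
    intro v hv
    have hb : Function.Bijective v := Finite.injective_iff_bijective.1 hv
    let σ : Equiv.Perm (Fin d) := Equiv.ofBijective v hb
    have h1 : (fun i => m (v i)) = m ∘ σ := rfl
    rw [h1, AlternatingMap.map_perm, AlternatingMap.map_perm]
    congr 1
    change _ = m.det m • exteriorPower.ιMulti A d m
    rw [Module.Basis.det_self, one_smul]
  exact congr($hg b)

theorem eq_form_smul (m : Module.Basis (Fin d) A M) (x : ⋀[A]^d M) :
    x = form m x • exteriorPower.ιMulti A d m := by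
  have h : (LinearMap.id : ⋀[A]^d M →ₗ[A] ⋀[A]^d M) =
      (LinearMap.toSpanSingleton A (⋀[A]^d M) (exteriorPower.ιMulti A d m)).comp (form m) := by
    apply exteriorPower.linearMap_ext
    ext b
    have := ιMulti_eq_det m b
    simp only [LinearMap.compAlternatingMap_apply, LinearMap.id_coe, id_eq, LinearMap.coe_comp,
      Function.comp_apply, form_ιMulti, LinearMap.toSpanSingleton_apply]
    rw [← this]
  exact congr($h x)

theorem gen_bijective (m : Module.Basis (Fin d) A M) :
    Function.Bijective (fun a : A => a • exteriorPower.ιMulti A d m) := by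
  constructor
  · intro a a' h
    have h1 := congrArg (form m) h
    simpa [form_ιMulti, Module.Basis.det_self] using h1
  · intro x
    exact ⟨form m x, (eq_form_smul m x).symm⟩

/-- `b` is a basis of `M`. -/
def IsBas (A : Type*) {M : Type*} [CommRing A] [AddCommGroup M] [Module A M] {d : ℕ} (b : Fin d → M) :
    Prop := Function.Bijective (fun a : Fin d → A => ∑ i, a i • b i)

theorem IsBas.exists_basis {b : Fin d → M} (h : IsBas A b) :
    ∃ m : Module.Basis (Fin d) A M, ⇑m = b := by
  refine ⟨Module.Basis.mk (v := b) (Fintype.linearIndependent_iff.2 (fun g hg i => ?_)) ?_,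
    Module.Basis.coe_mk _ _⟩
  · have : g = 0 := h.1 (by simpa using hg)
    rw [this]; rfl
  · rintro x -
    obtain ⟨c, rfl⟩ := h.2 x
    exact Submodule.sum_mem _ fun i _ => Submodule.smul_mem _ _ (Submodule.subset_span ⟨i, rfl⟩)

theorem isBas_basis (m : Module.Basis (Fin d) A M) : IsBas A m := by
  constructor
  · intro x y hxy
    exact m.equivFun.symm.injective (a₁ := x) (a₂ := y) (by
      simpa [Module.Basis.equivFun_symm_apply] using hxy)
  · intro x
    exact ⟨fun i => m.repr x i, m.sum_repr x⟩

theorem IsBas.gen {b : Fin d → M} (h : IsBas A b) :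
    Function.Bijective (fun a : A => a • exteriorPower.ιMulti A d b) := by
  obtain ⟨m, rfl⟩ := h.exists_basis
  exact gen_bijective m

/-- A family whose exterior product generates is a basis. -/
theorem isBas_of_gen {w b : Fin d → M} (hw : IsBas A w)
    (h : Function.Surjective (fun a : A => a • exteriorPower.ιMulti A d b)) : IsBas A b := by
  obtain ⟨m, rfl⟩ := hw.exists_basis
  obtain ⟨a, ha⟩ := h (exteriorPower.ιMulti A d m)
  have h1 : a * m.det b = 1 := by
    apply (gen_bijective m).1
    dsimp only at ha ⊢
    rw [one_smul, mul_smul, ← ιMulti_eq_det, ha]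
  have h2 : IsUnit (m.det b) := IsUnit.of_mul_eq_one_right a h1
  rw [← Module.Basis.is_basis_iff_det] at h2
  have h3 := isBas_basis (Module.Basis.mk h2.1 (le_of_eq h2.2.symm))
  rwa [Module.Basis.coe_mk] at h3

/-- Coordinates with respect to a basis are ratios of exterior products. -/
theorem IsBas.coord_eq {b : Fin d → M} (h : IsBas A b) (a : Fin d → A) (i : Fin d) (a' : A)
    (ha : exteriorPower.ιMulti A d (Function.update b i (∑ j, a j • b j)) =
      a' • exteriorPower.ιMulti A d b) : a' = a i := by
  rw [ιMulti_update_sum] at ha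
  exact (h.gen.1 ha).symm

end K821.PluckAlg
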