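import Groth.Agent.HilbD.K821.PtHom
import Groth.Agent.EGA2.K43.HomImm

/-!
# Opens of the Hilbert scheme of points on which given functions form a basis

`exists_retr`: `W ⊆ H` open over an affine open `U ⊆ S`, covered by affine opens over which `b` is a basis of the universal
family, `C ⊆ Γ(H, W)` a subring containing the functions of `U` and the coordinates of all functions of `f⁻¹ U`: then
`W ⟶ Spec C` has a retraction `Spec C ⟶ H`; in particular it is an immersion.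
-/

set_option autoImplicit false
set_option backward.isDefEq.respectTransparency false
universe u

open CategoryTheory CategoryTheory.Limits AlgebraicGeometry Opposite

namespace K821.Retr

open Groth.Agent.Picfga.HilbPull Groth.Agent.Picfga.HilbTriple Groth.Agent.Picfga.HilbChartAlg
  Groth.Agent.Picfga.HilbBas Groth.Agent.Picfga.HilbAff
  Groth.Agent.Fdesc.LocGen K43.HomImm K821.PtHom

section triple

variable {X S Z T : Scheme.{u}} {f : X ⟶ S} {h : T ⟶ S} {π : Z ⟶ T} {p : Z ⟶ X}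
  (w : p ≫ f = π ≫ h) {U : S.Opens} {V W : T.Opens}

include w in
theorem le_of_le (hW : W ≤ h ⁻¹ᵁ U) : π ⁻¹ᵁ W ≤ p ⁻¹ᵁ (f ⁻¹ᵁ U) := by
  rw [← Scheme.Hom.comp_preimage, w, Scheme.Hom.comp_preimage]
  exact π.preimage_mono hW

/-- Functions of `f⁻¹ U` on the family over `W`. -/
noncomputable def rho (hW : W ≤ h ⁻¹ᵁ U) : Γ(X, f ⁻¹ᵁ U) ⟶ Γ(Z, π ⁻¹ᵁ W) :=
  p.appLE (f ⁻¹ᵁ U) (π ⁻¹ᵁ W) (le_of_le w hW)

/-- `b` is a basis of the family over `W`. -/
def Good (hW : W ≤ h ⁻¹ᵁ U) {d : ℕ} (b : Fin d → Γ(X, f ⁻¹ᵁ U)) : Prop :=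
  RBas (π.app W).hom (fun i => (rho w hW).hom (b i))

theorem rho_res (hW : W ≤ h ⁻¹ᵁ U) (hV : V ≤ W) (c : Γ(X, f ⁻¹ᵁ U)) :
    ores (π.preimage_mono hV) ((rho w hW).hom c) = (rho w (hV.trans hW)).hom c := by
  have := Scheme.Hom.appLE_map p (U := f ⁻¹ᵁ U) (le_of_le w hW) (homOfLE (π.preimage_mono hV)).op
  exact congr(($this).hom c)

theorem app_res' (π : Z ⟶ T) (hV : V ≤ W) (a : Γ(T, W)) :
    ores (π.preimage_mono hV) ((π.app W).hom a) = (π.app V).hom (ores hV a) := by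
  have := π.naturality (homOfLE hV).op
  exact (congr(($this).hom a)).symm

theorem app_rho (hW : W ≤ h ⁻¹ᵁ U) : f.app U ≫ rho w hW = h.appLE U W hW ≫ π.app W := by
  have e1 : f.app U ≫ rho w hW = (p ≫ f).appLE U (π ⁻¹ᵁ W) (le_of_le w hW) := by
    rw [rho, Scheme.Hom.comp_appLE]
  have e2 : h.appLE U W hW ≫ π.app W = (π ≫ h).appLE U (π ⁻¹ᵁ W) (π.preimage_mono hW) := by
    rw [Scheme.Hom.comp_appLE, Scheme.Hom.appLE, Category.assoc, Scheme.Hom.appLE,
      Scheme.Hom.naturality]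
    rfl
  rw [e1, e2]
  congr 1

/-- The subalgebra of functions on the family over `W` with coordinates in `C`. -/
def sub (hW : W ≤ h ⁻¹ᵁ U) {d : ℕ} (b : Fin d → Γ(X, f ⁻¹ᵁ U)) (C : Subring Γ(T, W))
    (hC : ∀ c : Γ(X, f ⁻¹ᵁ U), ∃ a : Fin d → C, (rho w hW).hom c =
      ∑ i, (π.app W).hom (a i : Γ(T, W)) * (rho w hW).hom (b i)) : Subring Γ(Z, π ⁻¹ᵁ W) where
  carrier := {z | ∃ a : Fin d → C, z = ∑ i, (π.app W).hom (a i : Γ(T, W)) * (rho w hW).hom (b i)}
  zero_mem' := ⟨0, by simp⟩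
  one_mem' := by
    obtain ⟨a, ha⟩ := hC 1
    exact ⟨a, by rw [← ha, map_one]⟩
  add_mem' := by
    rintro _ _ ⟨a, rfl⟩ ⟨a', rfl⟩
    refine ⟨a + a', ?_⟩
    rw [← Finset.sum_add_distrib]
    refine Finset.sum_congr rfl fun i _ => ?_
    rw [Pi.add_apply, Subring.coe_add, map_add, add_mul]
  neg_mem' := by
    rintro _ ⟨a, rfl⟩
    refine ⟨-a, ?_⟩
    rw [← Finset.sum_neg_distrib]
    refine Finset.sum_congr rfl fun i _ => ?_
    rw [Pi.neg_apply, Subring.coe_neg, map_neg, neg_mul]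
  mul_mem' := by
    rintro _ _ ⟨a, rfl⟩ ⟨a', rfl⟩
    choose x hx using fun q : Fin d × Fin d => hC (b q.1 * b q.2)
    refine ⟨fun k => ∑ i, ∑ j, a i * a' j * x (i, j) k, ?_⟩
    rw [Finset.sum_mul_sum]
    have h1 : ∀ i j, (π.app W).hom (a i : Γ(T, W)) * (rho w hW).hom (b i) *
        ((π.app W).hom (a' j : Γ(T, W)) * (rho w hW).hom (b j)) =
        ∑ k, (π.app W).hom (a i : Γ(T, W)) * (π.app W).hom (a' j : Γ(T, W)) *
          ((π.app W).hom (x (i, j) k : Γ(T, W)) * (rho w hW).hom (b k)) := by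
      intro i j
      rw [← Finset.mul_sum, ← hx (i, j), map_mul]
      ring
    simp only [h1]
    rw [Finset.sum_congr rfl fun i _ => Finset.sum_comm, Finset.sum_comm]
    refine Finset.sum_congr rfl fun k _ => ?_
    simp only [AddSubmonoidClass.coe_finsetSum, Subring.coe_mul, map_sum, map_mul, Finset.sum_mul]
    refine Finset.sum_congr rfl fun i _ => Finset.sum_congr rfl fun j _ => by ring

variable (hW : W ≤ h ⁻¹ᵁ U) {d : ℕ} (b : Fin d → Γ(X, f ⁻¹ᵁ U)) (C : Subring Γ(T, W))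
    (hC : ∀ c : Γ(X, f ⁻¹ᵁ U), ∃ a : Fin d → C, (rho w hW).hom c =
      ∑ i, (π.app W).hom (a i : Γ(T, W)) * (rho w hW).hom (b i))

theorem mem_sub (c : C) : (π.app W).hom (c : Γ(T, W)) ∈ sub w hW b C hC := by
  obtain ⟨a, ha⟩ := hC 1
  refine ⟨fun i => c * a i, ?_⟩
  have h1 : (π.app W).hom (c : Γ(T, W)) = (π.app W).hom (c : Γ(T, W)) * (rho w hW).hom 1 := by
    rw [map_one, mul_one]
  rw [h1, ha, Finset.mul_sum]
  refine Finset.sum_congr rfl fun i _ => ?_
  rw [Subring.coe_mul, map_mul, mul_assoc]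

/-- `C → sub`. -/
noncomputable def subβ : CommRingCat.of C ⟶ CommRingCat.of (sub w hW b C hC) :=
  CommRingCat.ofHom (((π.app W).hom.comp C.subtype).codRestrict (sub w hW b C hC) (mem_sub w hW b C hC))

/-- `Γ(X, f⁻¹ U) → sub`. -/
noncomputable def subρ : Γ(X, f ⁻¹ᵁ U) ⟶ CommRingCat.of (sub w hW b C hC) :=
  CommRingCat.ofHom ((rho w hW).hom.codRestrict (sub w hW b C hC) (fun c => hC c))

/-- `Γ(S, U) → C`. -/
noncomputable def subγ (hW : W ≤ h ⁻¹ᵁ U) (C : Subring Γ(T, W))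
    (hR : ∀ r : Γ(S, U), (h.appLE U W hW).hom r ∈ C) : Γ(S, U) ⟶ CommRingCat.of C :=
  CommRingCat.ofHom ((h.appLE U W hW).hom.codRestrict C hR)

theorem sub_comm (hR : ∀ r : Γ(S, U), (h.appLE U W hW).hom r ∈ C) :
    f.app U ≫ subρ w hW b C hC = subγ hW C hR ≫ subβ w hW b C hC := by
  refine CommRingCat.hom_ext (RingHom.ext fun r => Subtype.ext ?_)
  exact congr(($(app_rho w hW)).hom r)

theorem coe_sum (a : Fin d → C) :
    ((∑ i, (subβ w hW b C hC).hom (a i) * (subρ w hW b C hC).hom (b i) : sub w hW b C hC) :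
        Γ(Z, π ⁻¹ᵁ W)) = ∑ i, (π.app W).hom (a i : Γ(T, W)) * (rho w hW).hom (b i) := by
  rw [AddSubmonoidClass.coe_finsetSum]
  rfl

theorem rBas_sub (hcov : ∀ y ∈ W, ∃ (V : T.Opens) (hV : V ≤ W), y ∈ V ∧ Good w (hV.trans hW) b) :
    RBas (subβ w hW b C hC).hom (fun i => (subρ w hW b C hC).hom (b i)) := by
  constructor
  · intro a a' h
    have h' : (∑ i, (subβ w hW b C hC).hom (a i) * (subρ w hW b C hC).hom (b i) : sub w hW b C hC) =
      ∑ i, (subβ w hW b C hC).hom (a' i) * (subρ w hW b C hC).hom (b i) := h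
    have h1 := congrArg (Subtype.val) h'
    rw [coe_sum, coe_sum] at h1
    funext k
    apply Subtype.ext
    choose V hVW hyV hgood using hcov
    refine ores_ext (X := T) (V := W) (fun y : W => V y.1 y.2) (fun y => hVW y.1 y.2)
      (fun x hx => TopologicalSpace.Opens.mem_iSup.mpr ⟨⟨x, hx⟩, hyV x hx⟩) ?_
    rintro ⟨y, hy⟩
    have key : ∀ a : Fin d → C, ores (π.preimage_mono (hVW y hy))
        (∑ i, (π.app W).hom (a i : Γ(T, W)) * (rho w hW).hom (b i)) =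
        ∑ i, (π.app (V y hy)).hom (ores (hVW y hy) (a i : Γ(T, W))) *
          (rho w ((hVW y hy).trans hW)).hom (b i) := by
      intro a
      rw [map_sum]
      refine Finset.sum_congr rfl fun i _ => ?_
      rw [map_mul, rho_res w hW (hVW y hy), app_res' π (hVW y hy)]
    have h2 := congrArg (ores (π.preimage_mono (hVW y hy))) h1
    rw [key, key] at h2
    exact congrFun ((hgood y hy).1 (a₁ := fun i => ores (hVW y hy) (a i : Γ(T, W)))
      (a₂ := fun i => ores (hVW y hy) (a' i : Γ(T, W))) h2) k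
  · rintro ⟨z, a, rfl⟩
    exact ⟨a, Subtype.ext (coe_sum w hW b C hC a)⟩

end triple

section univ

variable {X S : Scheme.{u}} {f : X ⟶ S} {d : ℕ} {H : Over S} {Z : HilbD.Obj f d H}
  [IsAffineHom f] (hZ : HilbD.IsUniversal f d H Z) {U : S.Opens} (hU : IsAffineOpen U)
  {W : H.left.Opens} (hW : W ≤ H.hom ⁻¹ᵁ U) (b : Fin d → Γ(X, f ⁻¹ᵁ U))
  (hcov : ∀ y ∈ W, ∃ (V : H.left.Opens) (h : V ≤ W), IsAffineOpen V ∧ y ∈ V ∧
    Good (qq_comp f Z.1) (h.trans hW) b)
  (C : Subring Γ(H.left, W)) (hR : ∀ r : Γ(S, U), (H.hom.appLE U W hW).hom r ∈ C)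
  (hC : ∀ c : Γ(X, f ⁻¹ᵁ U), ∃ a : Fin d → C, (rho (qq_comp f Z.1) hW).hom c =
      ∑ i, ((pi f Z.1).app W).hom (a i : Γ(H.left, W)) * (rho (qq_comp f Z.1) hW).hom (b i))

include hZ hU hcov hR in
/-- **The retraction.** -/
theorem exists_retr : ∃ (r : Spec (CommRingCat.of C) ⟶ H.left)
      (m : Spec (CommRingCat.of (sub (qq_comp f Z.1) hW b C hC)) ⟶ Z.1.subscheme),
      mor W C.subtype ≫ r = W.ι ∧ r ≫ H.hom = Spec.map (subγ hW C hR) ≫ hU.fromSpec ∧
      IsPullback m (Spec.map (subβ (qq_comp f Z.1) hW b C hC)) (pi f Z.1) r ∧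
      m ≫ qq f Z.1 = Spec.map (subρ (qq_comp f Z.1) hW b C hC) ≫ (hU.preimage f).fromSpec := by
  have hb := rBas_sub (qq_comp f Z.1) hW b C hC (fun y hy => by
    obtain ⟨V, h1, -, h2, h3⟩ := hcov y hy
    exact ⟨V, h1, h2, h3⟩)
  obtain ⟨r, m, hr1, hr2, hr3⟩ := exists_pt hZ hU _ _ _ (sub_comm (qq_comp f Z.1) hW b C hC hR) b hb
  refine ⟨r, m, ?_, hr1, hr2, hr3⟩
  -- local check
  choose V hVW hVa hyV hgood using hcov
  have hloc : ∀ (y) (hy : y ∈ W), H.left.homOfLE (hVW y hy) ≫ mor W C.subtype ≫ r =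
      H.left.homOfLE (hVW y hy) ≫ W.ι := by
    intro y hy
    rw [← Category.assoc, homOfLE_mor, Scheme.homOfLE_ι, mor, ← (hVa y hy).toSpecΓ_fromSpec, Category.assoc]
    congr 1
    let τ : CommRingCat.of C ⟶ Γ(H.left, V y hy) :=
      CommRingCat.ofHom ((ores (hVW y hy)).comp C.subtype)
    let κ : CommRingCat.of (sub (qq_comp f Z.1) hW b C hC) ⟶
        Γ(Z.1.subscheme, pi f Z.1 ⁻¹ᵁ V y hy) :=
      CommRingCat.ofHom ((ores ((pi f Z.1).preimage_mono (hVW y hy))).comp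
        (sub (qq_comp f Z.1) hW b C hC).subtype)
    have haff : IsAffineHom (pi f Z.1) := by
      have : IsFinite (pi f Z.1) := Z.2.1.1
      infer_instance
    have hκρ : subρ (qq_comp f Z.1) hW b C hC ≫ κ = rho (qq_comp f Z.1) ((hVW y hy).trans hW) := by
      refine CommRingCat.hom_ext (RingHom.ext fun c => ?_)
      exact rho_res (qq_comp f Z.1) hW (hVW y hy) c
    have hpo : IsPushout (subβ (qq_comp f Z.1) hW b C hC) τ κ ((pi f Z.1).app (V y hy)) := by
      refine isPushout_of_rBas _ ?_ hb ?_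
      · refine CommRingCat.hom_ext (RingHom.ext fun c => ?_)
        exact app_res' (pi f Z.1) (hVW y hy) c
      · have e : ∀ i, κ.hom ((subρ (qq_comp f Z.1) hW b C hC).hom (b i)) =
            (rho (qq_comp f Z.1) ((hVW y hy).trans hW)).hom (b i) := fun i => congr(($hκρ).hom (b i))
        simp only [e]
        exact hgood y hy
    refine hom_ext hZ _ _ ?_ (Spec.map ((pi f Z.1).app (V y hy))) (Spec.map κ ≫ m)
      (((hVa y hy).preimage (pi f Z.1)).fromSpec) ?_ ?_ ?_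
    · rw [Category.assoc, hr1, ← hU.SpecMap_appLE_fromSpec H.hom (hVa y hy) ((hVW y hy).trans hW),
        ← Spec.map_comp_assoc]
      congr 2
      refine CommRingCat.hom_ext (RingHom.ext fun c => ?_)
      have := Scheme.Hom.appLE_map H.hom (U := U) hW (homOfLE (hVW y hy)).op
      exact congr(($this).hom c)
    · exact (isPullback_SpecMap_of_isPushout _ _ _ _ hpo).paste_horiz hr2
    · exact K147.AffPull.isPullback_fromSpec (pi f Z.1) (hVa y hy)
    · rw [Category.assoc, hr3, ← Spec.map_comp_assoc, hκρ]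
      exact (hU.preimage f).SpecMap_appLE_fromSpec (qq f Z.1) ((hVa y hy).preimage (pi f Z.1)) _
  have hc : ∀ x : W.toScheme, ∃ (j : W) (y : (V j.1 j.2).toScheme),
      H.left.homOfLE (hVW j.1 j.2) y = x := by
    intro x
    refine ⟨x, ⟨x.1, hyV x.1 x.2⟩, ?_⟩
    apply W.ι.isOpenEmbedding.injective
    have := congr($(H.left.homOfLE_ι (hVW x.1 x.2)) (⟨x.1, hyV x.1 x.2⟩ : (V x.1 x.2).toScheme))
    exact this
  exact Scheme.Cover.hom_ext (Scheme.Cover.mkOfCovers (P := @IsOpenImmersion) (X := W.toScheme) W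
    (fun y => (V y.1 y.2).toScheme) (fun y => H.left.homOfLE (hVW y.1 y.2)) hc
    (fun _ => inferInstance)) _ _ fun y => hloc y.1 y.2

end univ

end K821.Retr
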