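import Groth.Agent.HilbD.K821.PluckAlg
import Groth.Agent.HilbD.K821.Retr
import Groth.Agent.Dual.H366.ExtQCoh
import Groth.Agent.Dual3.K477.ExtCoh
import Groth.Agent.EGA2.K43.VADef

/-!
# The Pluecker map of a finite locally free family
-/

set_option autoImplicit false
universe u

open CategoryTheory CategoryTheory.Limits AlgebraicGeometry Opposite TopologicalSpace

namespace K821.PluckSheaf

open Groth.Agent.Sga67.Sec Groth.Agent.Krr.H495.ExtSemi Groth.Agent.Krr.H495.ExtPre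
open K821.PluckAlg K821.Retr

/-- The push-forward of the structure sheaf. -/
noncomputable abbrev FO {Z T : Scheme.{u}} (π : Z ⟶ T) : T.Modules :=
  (Scheme.Modules.pushforward π).obj (Coh.structureModule Z)

/-- Functions as sections of the push-forward. -/
def toF {Z T : Scheme.{u}} (π : Z ⟶ T) (V : T.Opens) : Γ(Z, π ⁻¹ᵁ V) →+ Sec (FO π) V where
  toFun z := z
  map_zero' := rfl
  map_add' _ _ := rfl

theorem toF_smul {Z T : Scheme.{u}} (π : Z ⟶ T) (V : T.Opens) (a : Γ(T, V)) (z : Γ(Z, π ⁻¹ᵁ V)) :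
    toF π V ((π.app V).hom a * z) = a • toF π V z := rfl

section map

variable {X S Z T : Scheme.{u}} {f : X ⟶ S} {h : T ⟶ S} {π : Z ⟶ T} {p : Z ⟶ X}
  (w : p ≫ f = π ≫ h)

/-- The comparison of functions, as a semilinear map. -/
noncomputable def uS (U : S.Opens) : Sec (FO f) U →ₛₗ[(h.app U).hom] Sec (FO π) (h ⁻¹ᵁ U) where
  toFun c := toF π (h ⁻¹ᵁ U) ((rho w (le_refl (h ⁻¹ᵁ U))).hom c)
  map_add' c c' := by
    have := map_add (rho w (le_refl (h ⁻¹ᵁ U))).hom c c'
    exact congrArg (toF π (h ⁻¹ᵁ U)) this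
  map_smul' a c := by
    have h1 : ∀ c : Γ(X, f ⁻¹ᵁ U), (rho w (le_refl (h ⁻¹ᵁ U))).hom ((f.app U).hom a * c) =
        (π.app (h ⁻¹ᵁ U)).hom ((h.app U).hom a) * (rho w (le_refl (h ⁻¹ᵁ U))).hom c := by
      intro c
      rw [map_mul]
      congr 1
      have := congr(($(app_rho w (le_refl (h ⁻¹ᵁ U)))).hom a)
      rw [Scheme.Hom.appLE_eq_app] at this
      exact this
    exact congrArg (toF π (h ⁻¹ᵁ U)) (h1 c)

theorem uS_apply (U : S.Opens) (c : Γ(X, f ⁻¹ᵁ U)) :
    uS w U (toF f U c) = toF π (h ⁻¹ᵁ U) ((rho w (le_refl (h ⁻¹ᵁ U))).hom c) := rfl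

theorem res_uS {U V : S.Opens} (hV : V ≤ U) (c : Sec (FO f) U) :
    res (FO π) (h.preimage_mono hV) (uS w U c) = uS w V (res (FO f) hV c) := by
  have h1 := Scheme.Hom.appLE_map p (U := f ⁻¹ᵁ U) (le_of_le w (le_refl (h ⁻¹ᵁ U)))
    (homOfLE (π.preimage_mono (h.preimage_mono hV))).op
  have h2 := Scheme.Hom.map_appLE p (V := π ⁻¹ᵁ (h ⁻¹ᵁ V)) (U := f ⁻¹ᵁ V) (le_of_le w (le_refl (h ⁻¹ᵁ V)))
    (homOfLE (f.preimage_mono hV)).op
  exact (congr(($h1).hom c)).trans (congr(($h2).hom c)).symm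

/-- **The Pluecker map** `Λ^d f_* O_X ⟶ h_* Λ^d π_* O_Z`. -/
theorem exists_pluck (hE : Coh.IsQCoh (FO f)) (d : ℕ) :
    ∃ φ : ext d (FO f) ⟶ (Scheme.Modules.pushforward h).obj (ext d (FO π)),
      ∀ (U : S.Opens), IsAffineOpen U → ∀ b : Fin d → Sec (FO f) U,
        (show Sec (ext d (FO π)) (h ⁻¹ᵁ U) from
          appS φ U (eta' d (FO f) U (exteriorPower.ιMulti _ d b))) =
        eta' d (FO π) (h ⁻¹ᵁ U) (exteriorPower.ιMulti _ d (fun i => uS w U (b i))) := by
  let e : ∀ U : S.affineOpens, ⋀[Γ(S, U.1)]^d (Sec (FO f) U.1) ≃ₗ[Γ(S, U.1)] Sec (ext d (FO f)) U.1 :=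
    fun U => LinearEquiv.ofBijective (eta' d (FO f) U.1)
      (Groth.Agent.Dual.H366.ExtQCoh.bijective_eta' hE U.2 d)
  let g : ∀ U : S.affineOpens, ⋀[Γ(S, U.1)]^d (Sec (FO f) U.1) →ₗ[Γ(S, U.1)]
      Sec ((Scheme.Modules.pushforward h).obj (ext d (FO π))) U.1 := fun U =>
    { toFun := fun x => (show Sec (ext d (FO π)) (h ⁻¹ᵁ U.1) from
        eta' d (FO π) (h ⁻¹ᵁ U.1) (extS d (uS w U.1) x))
      map_add' := fun x y => by rw [map_add, map_add]; rfl
      map_smul' := fun a x => by rw [LinearMap.map_smulₛₗ, map_smul]; rfl }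
  obtain ⟨φ, hφ⟩ := exists_hom_of_basis' (affineBasis S) (ext d (FO f))
    ((Scheme.Modules.pushforward h).obj (ext d (FO π))) (fun U => (g U).comp (e U).symm.toLinearMap) (by
      intro U V hV s
      obtain ⟨x, rfl⟩ := (e U).surjective s
      have h1 : res (ext d (FO f)) hV (e U x) = e V (eres d (FO f) hV x) :=
        (eta'_eres d (FO f) hV x).symm
      rw [h1]
      simp only [LinearMap.comp_apply, LinearEquiv.coe_coe, LinearEquiv.symm_apply_apply]
      change eta' d (FO π) (h ⁻¹ᵁ V.1) (extS d (uS w V.1) (eres d (FO f) hV x)) =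
        res (ext d (FO π)) (h.preimage_mono hV) (eta' d (FO π) (h ⁻¹ᵁ U.1) (extS d (uS w U.1) x))
      rw [← eta'_eres]
      congr 1
      clear h1
      have hx : x ∈ Submodule.span Γ(S, U.1)
          (Set.range (exteriorPower.ιMulti Γ(S, U.1) d (M := Sec (FO f) U.1))) := by
        rw [exteriorPower.ιMulti_span]; trivial
      induction hx using Submodule.span_induction with
      | mem x hx =>
        obtain ⟨b, rfl⟩ := hx
        rw [eres_ιMulti, extS_ιMulti, extS_ιMulti, eres_ιMulti]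
        congr 1
        funext j
        exact (res_uS w hV (b j)).symm
      | zero => simp only [map_zero]
      | add x y _ _ hx hy => simp only [map_add, hx, hy]
      | smul a x _ hx =>
        have k1 := (eres d (FO f) hV).map_smulₛₗ a x
        have k2 := (extS d (uS w V.1)).map_smulₛₗ (resO S hV a) (eres d (FO f) hV x)
        have k3 := (extS d (uS w U.1)).map_smulₛₗ a x
        have k4 := (eres d (FO π) (h.preimage_mono hV)).map_smulₛₗ ((h.app U.1).hom a)
          (extS d (uS w U.1) x)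
        rw [k1, k2, k3, k4, hx]
        congr 1
        exact (congr(($(h.naturality (homOfLE hV).op)).hom a)))
  refine ⟨φ, fun U hU b => ?_⟩
  have h1 := hφ ⟨U, hU⟩ (e ⟨U, hU⟩ (exteriorPower.ιMulti _ d b))
  simp only [LinearMap.comp_apply, LinearEquiv.coe_coe, LinearEquiv.symm_apply_apply] at h1
  refine Eq.trans h1 ?_
  change eta' d (FO π) (h ⁻¹ᵁ U) (extS d (uS w U) (exteriorPower.ιMulti _ d b)) = _
  rw [extS_ιMulti]

end map

end K821.PluckSheaf
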