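import Groth.Agent.HilbD.K821.ValCrit
import Groth.Agent.RelProj.K823.Criterion
import Groth.Agent.Picfga.HilbSep

/-!
# The Hilbert scheme of points of a finite morphism is projective

`exists_projective`: for `f : X ⟶ S` finite, `Hilb^d_{X/S}` is representable by a projective `S`-scheme.
-/

set_option autoImplicit false
set_option backward.isDefEq.respectTransparency false
universe u

open CategoryTheory CategoryTheory.Limits AlgebraicGeometry Opposite TopologicalSpace

namespace K821.ProjH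

open Groth.Agent.Krr.H495.ExtSemi Groth.Agent.Krr.H495.ExtPre
open Groth.Agent.Sga67.Sec (Sec appS)
open Groth.Agent.Picfga.HilbChartAlg (RBas)
open Groth.Agent.Picfga.HilbBas Groth.Agent.Picfga.HilbTriple
open K821.Retr K821.PluckSheaf K821.GenCrit K821.PtHom K821.Va K821.ValCrit
open Groth.Agent.Fdesc.LocGen (IsGen)
open K43.VADef K43.HomImm

/-- A finite generating family of functions of `f⁻¹ U`. -/
theorem exists_gens {X S : Scheme.{u}} (f : X ⟶ S) [IsFinite f] {U : S.Opens} (hU : IsAffineOpen U) :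
    ∃ G : Finset Γ(X, f ⁻¹ᵁ U), let _ := (f.app U).hom.toAlgebra;
      Submodule.span Γ(S, U) (Set.range (fun x : G => (x : Γ(X, f ⁻¹ᵁ U)))) = ⊤ := by
  have h1 : (f.app U).hom.Finite := IsFinite.finite_app f U hU
  algebraize [(f.app U).hom]
  obtain ⟨G, hG⟩ := (inferInstance : Module.Finite Γ(S, U) Γ(X, f ⁻¹ᵁ U)).fg_top
  refine ⟨G, ?_⟩
  have : Set.range (fun x : G => (x : Γ(X, f ⁻¹ᵁ U))) = (G : Set Γ(X, f ⁻¹ᵁ U)) :=
    Subtype.range_coe
  rw [this]
  exact hG

theorem module_finite_ext {X S : Scheme.{u}} (f : X ⟶ S) [IsFinite f] (d : ℕ) {U : S.Opens}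
    (hU : IsAffineOpen U) : Module.Finite Γ(S, U) Γ(ext d (FO f), U) := by
  have h1 : (f.app U).hom.Finite := IsFinite.finite_app f U hU
  have h2 : Module.Finite Γ(S, U) (Sec (FO f) U) := h1
  let e : ⋀[Γ(S, U)]^d (Sec (FO f) U) ≃ₗ[Γ(S, U)] Sec (ext d (FO f)) U :=
    LinearEquiv.ofBijective (eta' d (FO f) U)
      (Groth.Agent.Dual.H366.ExtQCoh.bijective_eta' (isQCoh_FO f) hU d)
  exact Module.Finite.equiv e

variable {X S : Scheme.{u}} {f : X ⟶ S} {d : ℕ} {H : Over S} {Z : HilbD.Obj f d H}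
  [IsFinite f] (hZ : HilbD.IsUniversal f d H Z)

theorem isInvertible : PicF.IsInvertible (ext d (FO (pi f Z.1))) := by
  rw [Groth.Agent.Fdesc.LocGen.isInvertible_iff]
  intro y
  obtain ⟨U, hU, hsU, -⟩ := exists_isAffineOpen_mem_and_subset (X := S)
    (x := H.hom y) (U := ⊤) trivial
  obtain ⟨w, V, hV, hVa, hyV, hgood⟩ := exists_good (pi f Z.1) (qq_comp f Z.1) Z.2 hU
    (fun c : Γ(X, f ⁻¹ᵁ U) => c) (by
      intro _
      rw [Set.range_id', Submodule.span_univ]) y hsU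
  exact ⟨V, _, hyV, isGen_gsec (pi f Z.1) hVa _ hgood⟩

include hZ in
theorem quasiCompact : QuasiCompact H.hom := by
  rw [quasiCompact_iff_forall_isAffineOpen]
  intro U hU
  obtain ⟨G, hG⟩ := exists_gens f hU
  obtain ⟨φ, hφ⟩ := exists_isPluck (qq_comp f Z.1) d
  have hkey2 : ∀ z, hU.fromSpec z ∈ U := by
    intro z
    have : hU.fromSpec z ∈ Set.range hU.fromSpec := ⟨z, rfl⟩
    rwa [hU.range_fromSpec] at this
  have key : ∀ b : Fin d → G, ∃ (C : CommRingCat.{u}) (r : Spec C ⟶ H.left),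
      (nz H.hom φ (gsec f (fun i => (b i : Γ(X, f ⁻¹ᵁ U)))) : Set H.left) ⊆ Set.range r ∧
      Set.range r ⊆ H.hom ⁻¹ᵁ U := by
    intro b
    obtain ⟨r, m, hr, hr2, -⟩ := exists_retr hZ hU
      (nz_le H.hom φ (gsec f (fun i => (b i : Γ(X, f ⁻¹ᵁ U))))) (fun i => (b i : Γ(X, f ⁻¹ᵁ U)))
      (fun y hy => exists_good_of_mem hφ Z.2 hU (fun i => (b i : Γ(X, f ⁻¹ᵁ U))) le_rfl hy)
      (ratioRing H.hom φ (gsec f (fun i => (b i : Γ(X, f ⁻¹ᵁ U)))))
      (fun r => app_mem_ratioRing H.hom φ (gsec f (fun i => (b i : Γ(X, f ⁻¹ᵁ U)))) r)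
      (exists_coord hφ Z.2 hU (fun i => (b i : Γ(X, f ⁻¹ᵁ U))))
    refine ⟨_, r, ?_, ?_⟩
    · intro x hx
      exact ⟨_, congr($hr ⟨x, hx⟩)⟩
    · rintro _ ⟨x, rfl⟩
      change H.hom (r x) ∈ U
      rw [← Scheme.Hom.comp_apply, hr2, Scheme.Hom.comp_apply]
      exact hkey2 _
  choose C r h1 h2 using key
  have h3 : (H.hom ⁻¹ᵁ U : Set H.left) = ⋃ b, Set.range (r b) := by
    apply subset_antisymm
    · intro y hy
      obtain ⟨b, V, hV, hVa, hyV, hgood⟩ := exists_good (pi f Z.1) (qq_comp f Z.1) Z.2 hU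
        (fun x : G => (x : Γ(X, f ⁻¹ᵁ U))) hG y hy
      exact Set.mem_iUnion.2 ⟨b, h1 b (le_nz_of_good hφ hU _ hVa hV hgood hyV)⟩
    · exact Set.iUnion_subset h2
  rw [h3]
  exact isCompact_iUnion fun b => isCompact_range (r b).continuous

include hZ in
theorem universallyClosed : UniversallyClosed H.hom := by
  have := quasiCompact hZ
  exact UniversallyClosed.of_valuativeCriterion _ (existence hZ)

include hZ in
theorem isProjective : RelProj.IsProjective H.hom := by
  have := universallyClosed hZ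
  obtain ⟨φ, hφ⟩ := exists_isPluck (qq_comp f Z.1) d
  exact K823.Criterion.isProjective_of_VA H.hom φ isInvertible
    (Groth.Agent.K477.ExtCoh.isQCoh_ext (isQCoh_FO f) d)
    (fun U hU => module_finite_ext f d hU) (va hZ hφ)

/-- **The Hilbert scheme of points of a finite morphism is projective.** -/
theorem exists_projective (f : X ⟶ S) [IsFinite f] (d : ℕ) :
    ∃ (H : Over S) (Z : HilbD.Obj f d H), HilbD.IsUniversal f d H Z ∧ RelProj.IsProjective H.hom := by
  obtain ⟨H, Z, hZ⟩ := Groth.Agent.Picfga.HilbSep.representable_of_isSeparated f d (by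
    intro s x hx
    obtain ⟨U, hU, hsU, -⟩ := exists_isAffineOpen_mem_and_subset (X := S) (x := s) (U := ⊤) trivial
    refine ⟨f ⁻¹ᵁ U, hU.preimage f, fun i => ?_⟩
    change f (x i) ∈ U
    rw [hx i]
    exact hsU)
  exact ⟨H, Z, hZ, isProjective hZ⟩

end K821.ProjH
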