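import Groth.Agent.Picfga.HilbAff
import Groth.Agent.Unram.K147.AffPull

/-!
# Points of the Hilbert scheme of points with a given basis, over an affine open of the base

`exists_pt`: for `f : X ⟶ S` affine, `U ⊆ S` affine open, and a diagram of rings `Γ(X, f⁻¹U) → Q ← C ← Γ(S, U)` such
that the images of `b : Fin d → Γ(X, f⁻¹U)` form a basis of `Q` over `C`, the corresponding map `Spec C ⟶ H`.
`hom_ext`: uniqueness of maps to `H` in terms of triples.
-/

set_option autoImplicit false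
set_option backward.isDefEq.respectTransparency false
universe u

open CategoryTheory CategoryTheory.Limits AlgebraicGeometry Opposite

namespace K821.PtHom

open Groth.Agent.Picfga.HilbPull Groth.Agent.Picfga.HilbTriple Groth.Agent.Picfga.HilbChartAlg
  Groth.Agent.Picfga.HilbBas Groth.Agent.Picfga.HilbAff

/-- A ring map with target generated by two subrings. -/
theorem surjective_desc {R A C P Q : CommRingCat.{u}} {a : R ⟶ A} {γ : R ⟶ C} {i : A ⟶ P} {j : C ⟶ P}
    (hP : IsPushout a γ i j) {β : C ⟶ Q} {ρ : A ⟶ Q} (hc : a ≫ ρ = γ ≫ β) {d : ℕ} (b : Fin d → A)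
    (hb : RBas β.hom (fun k => ρ.hom (b k))) : Function.Surjective (hP.desc ρ β hc).hom := by
  intro z
  obtain ⟨c, rfl⟩ := hb.2 z
  refine ⟨∑ k, j.hom (c k) * i.hom (b k), ?_⟩
  rw [map_sum]
  refine Finset.sum_congr rfl fun k _ => ?_
  rw [map_mul]
  have h1 : (hP.desc ρ β hc).hom (j.hom (c k)) = β.hom (c k) := congr($(hP.inr_desc ρ β hc).hom (c k))
  have h2 : (hP.desc ρ β hc).hom (i.hom (b k)) = ρ.hom (b k) := congr($(hP.inl_desc ρ β hc).hom (b k))
  rw [h1, h2]

variable {X S : Scheme.{u}} (f : X ⟶ S) {d : ℕ} {H : Over S} {Z : HilbD.Obj f d H}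

theorem isClosedImmersion_toXT' [IsAffineHom f] {U : S.Opens} (hU : IsAffineOpen U)
    {C Q : CommRingCat.{u}} (γ : Γ(S, U) ⟶ C) (β : C ⟶ Q) (ρ : Γ(X, f ⁻¹ᵁ U) ⟶ Q)
    (hc : f.app U ≫ ρ = γ ≫ β) (b : Fin d → Γ(X, f ⁻¹ᵁ U)) (hb : RBas β.hom (fun i => ρ.hom (b i)))
    (w : (Spec.map ρ ≫ (hU.preimage f).fromSpec) ≫ f =
      Spec.map β ≫ (Over.mk (Spec.map γ ≫ hU.fromSpec) : Over S).hom) :
    IsClosedImmersion (toXT f (T := Over.mk (Spec.map γ ≫ hU.fromSpec)) (Spec.map β)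
      (Spec.map ρ ≫ (hU.preimage f).fromSpec) w) := by
  have hP := IsPushout.of_hasPushout (f.app U) γ
  have h1 := isPullback_SpecMap_of_isPushout _ _ _ _ hP
  have h2 := K147.AffPull.isPullback_fromSpec f hU
  have h3 : IsPullback (Spec.map (pushout.inl (f.app U) γ) ≫ (hU.preimage f).fromSpec)
      (Spec.map (pushout.inr (f.app U) γ)) f (Spec.map γ ≫ hU.fromSpec) := by
    exact (h1.flip.paste_vert h2.flip).flip
  have h4 : toXT f (T := Over.mk (Spec.map γ ≫ hU.fromSpec)) (Spec.map β)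
      (Spec.map ρ ≫ (hU.preimage f).fromSpec) w =
      Spec.map (hP.desc ρ β hc) ≫ h3.isoPullback.hom := by
    apply pullback.hom_ext
    · rw [pullback.lift_fst, Category.assoc]
      erw [h3.isoPullback_hom_fst]
      rw [← Spec.map_comp_assoc, hP.inl_desc]
    · rw [pullback.lift_snd, Category.assoc]
      erw [h3.isoPullback_hom_snd]
      rw [← Spec.map_comp, hP.inr_desc]
  rw [h4]
  have : IsClosedImmersion (Spec.map (hP.desc ρ β hc)) :=
    IsClosedImmersion.spec_of_surjective _ (surjective_desc hP hc b hb)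
  infer_instance

theorem isFinLocFreeOfDeg_spec {C Q : CommRingCat.{u}} (β : C ⟶ Q) (v : Fin d → Q)
    (hb : RBas β.hom v) : Mor2.IsFinLocFreeOfDeg d (Spec.map β) := by
  have key : β.hom.Finite ∧ β.hom.Flat ∧ β.hom.FinitePresentation ∧ ∀ p, β.hom.finrank p = d := by
    algebraize [β.hom]
    have hb' : Bas C v := (rBas_iff v).1 hb
    have hfree : Module.Free C Q := Module.Free.of_basis hb'.basis
    have hfin : Module.Finite C Q := Module.Finite.of_basis hb'.basis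
    refine ⟨hfin, ?_, ?_, ?_⟩
    · exact (inferInstance : Module.Flat C Q)
    · have : Module.FinitePresentation C Q := Module.finitePresentation_of_projective _ _
      exact (inferInstance : Algebra.FinitePresentation C Q)
    · intro p
      have : Nontrivial C := by
        rcases subsingleton_or_nontrivial C with hs | hs
        · exact absurd (by rw [Subsingleton.elim (1 : C) 0]; exact p.asIdeal.zero_mem)
            p.isPrime.one_notMem
        · exact hs
      change Module.rankAtStalk (R := C) Q p = d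
      rw [Module.rankAtStalk_eq_finrank_of_free]
      simp [Module.finrank_eq_card_basis hb'.basis]
  obtain ⟨h1, h2, h3, h4⟩ := key
  refine ⟨⟨(IsFinite.SpecMap_iff _).2 h1, Flat.SpecMap_iff.2 h2,
    (LocallyOfFinitePresentation.SpecMap_iff _).2 h3⟩, fun y => ?_⟩
  rw [Scheme.Hom.finrank_SpecMap_eq_finrank h1 h2]
  exact h4 y

variable {f} in
/-- Uniqueness of maps to `H`, in terms of triples. -/
theorem hom_ext (hZ : HilbD.IsUniversal f d H Z) {T Z' : Scheme.{u}} (g₁ g₂ : T ⟶ H.left)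
    (hg : g₁ ≫ H.hom = g₂ ≫ H.hom) (π' : Z' ⟶ T) (m₁ m₂ : Z' ⟶ Z.1.subscheme)
    (h₁ : IsPullback m₁ π' (pi f Z.1) g₁) (h₂ : IsPullback m₂ π' (pi f Z.1) g₂)
    (h : m₁ ≫ qq f Z.1 = m₂ ≫ qq f Z.1) : g₁ = g₂ := by
  let T' : Over S := Over.mk (g₁ ≫ H.hom)
  let a₁ : T' ⟶ H := Over.homMk g₁ rfl
  let a₂ : T' ⟶ H := Over.homMk g₂ hg.symm
  have : IsClosedImmersion (toXT f (pi f Z.1) (qq f Z.1) (qq_comp f Z.1)) := by
    rw [toXT_eq]; infer_instance
  have w : (m₁ ≫ qq f Z.1) ≫ f = π' ≫ T'.hom := by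
    rw [Category.assoc, qq_comp, ← Category.assoc, h₁.w, Category.assoc]; rfl
  have e₁ := pull_ker_eq f a₁ (pi f Z.1) (qq f Z.1) (qq_comp f Z.1) π' (m₁ ≫ qq f Z.1) w m₁ h₁ rfl
  have e₂ := pull_ker_eq f a₂ (pi f Z.1) (qq f Z.1) (qq_comp f Z.1) π' (m₁ ≫ qq f Z.1) w m₂ h₂ h.symm
  rw [toXT_eq, Scheme.IdealSheafData.ker_subschemeι] at e₁ e₂
  have h3 := hom_ext_of_isUniversal hZ (a := a₁) (b := a₂) (e₁.trans e₂.symm)
  exact congr($(h3).left)

variable {f} in
/-- The point of `H` attached to an algebra with a basis. -/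
theorem exists_pt [IsAffineHom f] (hZ : HilbD.IsUniversal f d H Z) {U : S.Opens} (hU : IsAffineOpen U)
    {C Q : CommRingCat.{u}} (γ : Γ(S, U) ⟶ C) (β : C ⟶ Q) (ρ : Γ(X, f ⁻¹ᵁ U) ⟶ Q)
    (hc : f.app U ≫ ρ = γ ≫ β) (b : Fin d → Γ(X, f ⁻¹ᵁ U)) (hb : RBas β.hom (fun i => ρ.hom (b i))) :
    ∃ (g : Spec C ⟶ H.left) (m : Spec Q ⟶ Z.1.subscheme), g ≫ H.hom = Spec.map γ ≫ hU.fromSpec ∧
      IsPullback m (Spec.map β) (pi f Z.1) g ∧
      m ≫ qq f Z.1 = Spec.map ρ ≫ (hU.preimage f).fromSpec := by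
  let T : Over S := Over.mk (Spec.map γ ≫ hU.fromSpec)
  have w : (Spec.map ρ ≫ (hU.preimage f).fromSpec) ≫ f = Spec.map β ≫ T.hom := by
    rw [Category.assoc, (K147.AffPull.isPullback_fromSpec f hU).w, ← Spec.map_comp_assoc, hc,
      Spec.map_comp_assoc]
    rfl
  have := isClosedImmersion_toXT' f hU γ β ρ hc b hb w
  have hdeg := isFinLocFreeOfDeg_spec β _ hb
  obtain ⟨g, hg, -⟩ := hZ T (ofTriple f (T := T) (Spec.map β) _ w hdeg)
  obtain ⟨m, hm, hq⟩ := exists_isPullback_of_pull_eq f g Z.1 _ hg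
  obtain ⟨e, he, he'⟩ := exists_iso_ker f (T := T) (Spec.map β) _ w
  refine ⟨g.left, e.hom ≫ m, Over.w g, ?_, ?_⟩
  · have h2 : IsPullback e.hom (Spec.map β) (pi f (toXT f (T := T) (Spec.map β) _ w).ker) (𝟙 _) :=
      IsPullback.of_horiz_isIso ⟨by rw [Category.comp_id]; exact he⟩
    have := h2.paste_horiz hm
    rwa [Category.id_comp] at this
  · rw [Category.assoc, hq]
    exact he'

end K821.PtHom
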