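import Groth.Agent.HilbD.K821.GenCrit

/-!
# The Pluecker map of the Hilbert scheme of points is very ample

`va`: for `f : X ⟶ S` affine and `(H, Z)` universal for `Hilb^d_{X/S}`, the Pluecker map
`φ : Λ^d f_* O_X ⟶ q_* Λ^d π_* O_Z` satisfies `K43.VADef.VA q φ`.
-/

set_option autoImplicit false
universe u

open CategoryTheory CategoryTheory.Limits AlgebraicGeometry Opposite TopologicalSpace

namespace K821.Va

open Groth.Agent.Sga67.Sec (Sec appS)
open Groth.Agent.Krr.H495.ExtSemi Groth.Agent.Krr.H495.ExtPre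
open Groth.Agent.Picfga.HilbChartAlg (RBas)
open Groth.Agent.Picfga.HilbBas Groth.Agent.Picfga.HilbTriple
open K821.PluckAlg K821.Retr K821.PluckSheaf K821.GenCrit
open Groth.Agent.Fdesc.LocGen (IsGen ores ores_ext ores_glue res_ext ores_ores)
open Groth.Agent.Ega2.Nv K43.VADef K43.HomImm

section pluck

variable {X S Z T : Scheme.{u}} {f : X ⟶ S} {h : T ⟶ S} {π : Z ⟶ T} {p : Z ⟶ X}
  (w : p ≫ f = π ≫ h) {d : ℕ}

/-- `φ` is the Pluecker map. -/
def IsPluck (φ : ext d (FO f) ⟶ (Scheme.Modules.pushforward h).obj (ext d (FO π))) : Prop :=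
  ∀ (U : S.Opens), IsAffineOpen U → ∀ b : Fin d → Sec (FO f) U,
        (show Sec (ext d (FO π)) (h ⁻¹ᵁ U) from
          appS φ U (eta' d (FO f) U (exteriorPower.ιMulti _ d b))) =
        eta' d (FO π) (h ⁻¹ᵁ U) (exteriorPower.ιMulti _ d (fun i => uS w U (b i)))

theorem exists_isPluck [IsAffineHom f] (d : ℕ) : ∃ φ : ext d (FO f) ⟶ (Scheme.Modules.pushforward h).obj (ext d (FO π)),
    IsPluck w φ :=
  exists_pluck w (isQCoh_FO f) d

variable {w} {φ : ext d (FO f) ⟶ (Scheme.Modules.pushforward h).obj (ext d (FO π))}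
  (hφ : IsPluck w φ)

include hφ in
theorem se_eq {U : S.Opens} (hU : IsAffineOpen U) (b : Fin d → Γ(X, f ⁻¹ᵁ U)) :
    se h φ (gsec f b) = gsec π (fun i => (rho w (le_refl (h ⁻¹ᵁ U))).hom (b i)) :=
  hφ U hU (fun i => toF f U (b i))

include hφ in
theorem res_se_eq {U : S.Opens} (hU : IsAffineOpen U) (b : Fin d → Γ(X, f ⁻¹ᵁ U)) {W : T.Opens}
    (hW : W ≤ h ⁻¹ᵁ U) : Groth.Agent.Fdesc.LocGen.res (ext d (FO π)) hW (se h φ (gsec f b)) =
      gsec π (fun i => (rho w hW).hom (b i)) := by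
  rw [se_eq hφ hU, res_gsec]
  congr 1
  funext i
  exact rho_res w (le_refl (h ⁻¹ᵁ U)) hW (b i)

variable [IsAffineHom π]

include hφ in
/-- `V` lies in the nonvanishing locus if `b` is a basis over `V`. -/
theorem le_nz_of_good {U : S.Opens} (hU : IsAffineOpen U) (b : Fin d → Γ(X, f ⁻¹ᵁ U)) {V : T.Opens}
    (hV : IsAffineOpen V) (hVU : V ≤ h ⁻¹ᵁ U) (hg : Good w hVU b) : V ≤ nz h φ (gsec f b) := by
  rw [nz, le_nv_iff _ _ hVU, res_se_eq hφ hU b hVU]
  exact isGen_gsec π hV _ hg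

variable [IsAffineHom f] [IsClosedImmersion (pullback.lift p π w)] (hdeg : Mor2.IsFinLocFreeOfDeg d π)

include hφ hdeg in
theorem exists_good_of_mem {U : S.Opens} (hU : IsAffineOpen U) (b : Fin d → Γ(X, f ⁻¹ᵁ U)) {W : T.Opens}
    (hW : W ≤ nz h φ (gsec f b)) {y : T} (hy : y ∈ W) : ∃ (V : T.Opens) (hV : V ≤ W),
      IsAffineOpen V ∧ y ∈ V ∧ Good w (hV.trans (hW.trans (nz_le h φ _))) b := by
  have hyU : y ∈ h ⁻¹ᵁ U := nz_le h φ _ (hW hy)
  obtain ⟨b', V₀, hV₀, hV₀a, hyV₀, hgood⟩ := exists_good π w hdeg hU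
    (fun c : Γ(X, f ⁻¹ᵁ U) => c) (by
      intro _
      rw [Set.range_id', Submodule.span_univ]) y hyU
  obtain ⟨V, hVa, hyV, hVle⟩ := exists_isAffineOpen_mem_and_subset (X := T) (x := y) (U := V₀ ⊓ W)
    ⟨hyV₀, hy⟩
  have h1 : V ≤ V₀ := fun x hx => (hVle hx).1
  have h2 : V ≤ W := fun x hx => (hVle hx).2
  refine ⟨V, h2, hVa, hyV, ?_⟩
  have h3 := rBas_res π hV₀a hVa h1 _ hgood
  have h4 : ∀ c : Γ(X, f ⁻¹ᵁ U), ores (π.preimage_mono h1) ((rho w hV₀).hom c) =
      (rho w (h1.trans hV₀)).hom c := fun c => rho_res w hV₀ h1 c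
  simp only [h4] at h3
  refine rBas_of_isGen π hVa _ _ h3 ?_
  rw [← res_se_eq hφ hU b, ← le_nv_iff]
  exact h2.trans hW

include hφ hdeg in
/-- Coordinates are ratios. -/
theorem exists_coord {U : S.Opens} (hU : IsAffineOpen U) (b : Fin d → Γ(X, f ⁻¹ᵁ U)) (c : Γ(X, f ⁻¹ᵁ U)) :
    ∃ a : Fin d → ratioRing h φ (gsec f b), (rho w (nz_le h φ (gsec f b))).hom c =
      ∑ i, (π.app (nz h φ (gsec f b))).hom (a i : Γ(T, nz h φ (gsec f b))) *
        (rho w (nz_le h φ (gsec f b))).hom (b i) := by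
  choose a ha hae using fun i : Fin d => exists_ratio h φ (gsec f b) (gsec f (Function.update b i c))
  refine ⟨fun i => ⟨a i, ha i⟩, ?_⟩
  let W := nz h φ (gsec f b)
  have hW : W ≤ h ⁻¹ᵁ U := nz_le h φ (gsec f b)
  choose V hVW hVa hyV hgood using fun y : W => exists_good_of_mem hφ hdeg hU b (le_refl W) y.2
  refine ores_ext (X := Z) (V := π ⁻¹ᵁ W) (fun y : W => π ⁻¹ᵁ V y) (fun y => π.preimage_mono (hVW y))
    (fun x hx => Opens.mem_iSup.mpr ⟨⟨π x, hx⟩, hyV ⟨π x, hx⟩⟩) ?_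
  intro y
  obtain ⟨a', ha'⟩ := (hgood y).2 ((rho w ((hVW y).trans hW)).hom c)
  dsimp only at ha'
  have hc : ∀ i, ores (hVW y) (a i) = a' i := by
    intro i
    refine coord_eq π (hVa y) _ (hgood y) a' i _ ?_
    have h1 := congrArg (Groth.Agent.Fdesc.LocGen.res (ext d (FO π)) (hVW y)) (hae i)
    rw [Groth.Agent.Fdesc.LocGen.res_smul, Groth.Agent.Fdesc.LocGen.res_res,
      Groth.Agent.Fdesc.LocGen.res_res, res_se_eq hφ hU b, res_se_eq hφ hU (Function.update b i c)] at h1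
    rw [← h1]
    congr 1
    funext k
    rcases eq_or_ne k i with rfl | hk
    · rw [Function.update_self, Function.update_self, ha']
    · rw [Function.update_of_ne hk, Function.update_of_ne hk]
  rw [rho_res w hW (hVW y), ← ha', map_sum]
  refine Finset.sum_congr rfl fun i _ => ?_
  rw [map_mul, rho_res w hW (hVW y), app_res' π (hVW y), hc i]

end pluck

section univ

variable {X S : Scheme.{u}} {f : X ⟶ S} {d : ℕ} {H : Over S} {Z : HilbD.Obj f d H}
  [IsAffineHom f] (hZ : HilbD.IsUniversal f d H Z)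
  {φ : ext d (FO f) ⟶ (Scheme.Modules.pushforward H.hom).obj (ext d (FO (pi f Z.1)))}
  (hφ : IsPluck (qq_comp f Z.1) φ)

instance : IsClosedImmersion (pullback.lift (qq f Z.1) (pi f Z.1) (qq_comp f Z.1)) := by
  have h1 : pullback.lift (qq f Z.1) (pi f Z.1) (qq_comp f Z.1) = Z.1.subschemeι := by
    apply pullback.hom_ext
    · rw [pullback.lift_fst]
    · rw [pullback.lift_snd]
  rw [h1]
  infer_instance

instance : IsAffineHom (pi f Z.1) := by
  have : IsFinite (pi f Z.1) := Z.2.1.1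
  infer_instance

include hZ hφ in
/-- **The Pluecker map is very ample.** -/
theorem va : VA H.hom φ := by
  intro U hU x hx
  obtain ⟨b, V, hV, hVa, hxV, hgood⟩ := exists_good (pi f Z.1) (qq_comp f Z.1) Z.2 hU
    (fun c : Γ(X, f ⁻¹ᵁ U) => c) (by
      intro _
      rw [Set.range_id', Submodule.span_univ]) x hx
  refine ⟨gsec f b, le_nz_of_good hφ hU b hVa hV hgood hxV, ?_⟩
  obtain ⟨r, m, hr, -⟩ := exists_retr hZ hU (nz_le H.hom φ (gsec f b)) b
    (fun y hy => exists_good_of_mem hφ Z.2 hU b le_rfl hy)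
    (ratioRing H.hom φ (gsec f b)) (fun r => app_mem_ratioRing H.hom φ (gsec f b) r)
    (exists_coord hφ Z.2 hU b)
  have h1 : IsImmersion (mor (nz H.hom φ (gsec f b)) (ratioRing H.hom φ (gsec f b)).subtype ≫ r) := by
    rw [hr]; infer_instance
  exact IsImmersion.of_comp _ r

end univ

end K821.Va
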