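import Groth.Agent.Picfga.HilbBas2
import Mathlib.RingTheory.Flat.TorsionFree
import Mathlib.RingTheory.LocalRing.Module
import Mathlib.RingTheory.Localization.Module
import Mathlib.RingTheory.Valuation.ValuationRing
import Mathlib.RingTheory.Localization.Integral

/-!
# Extending finite quotient algebras over valuation rings

`exists_val`: `R` a valuation ring with fraction field `K`, `A` an `R₀`-algebra finite as a module, `R₀ → R`, and
`ρ : A → Q` a map to a `K`-algebra of dimension `d` with `K ⊗ A → Q` surjective: the `R`-span of the image is a free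
`R`-algebra of rank `d` with a basis from `A`.
-/

set_option autoImplicit false
universe u

open TensorProduct

namespace K821.Val

open Groth.Agent.Picfga.HilbChartAlg

variable {R K R₀ A Q : Type u} [CommRing R] [IsDomain R] [ValuationRing R] [Field K] [Algebra R K]
  [IsFractionRing R K] [CommRing R₀] [CommRing A] [CommRing Q] [Algebra R₀ A] [Algebra K Q]
  [Algebra R Q] [IsScalarTower R K Q] [Algebra R₀ R] [Algebra R₀ Q] [IsScalarTower R₀ R Q]

/-- The map `R ⊗ A → Q`. -/
noncomputable def lift (ρ : A →ₐ[R₀] Q) : R ⊗[R₀] A →ₐ[R] Q :=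
  Algebra.TensorProduct.lift (Algebra.ofId R Q) ρ (fun _ _ => Commute.all _ _)

theorem exists_val [Module.Finite R₀ A] (ρ : A →ₐ[R₀] Q) {d : ℕ} (w : Fin d → A)
    (hw : Bas K (fun i => ρ (w i))) :
    ∃ (QR : Subalgebra R Q) (hA : ∀ a, ρ a ∈ QR) (b : Fin d → A), Bas K (fun i => ρ (b i)) ∧
      Bas R (fun i => (⟨ρ (b i), hA _⟩ : QR)) := by
  let l : R ⊗[R₀] A →ₐ[R] Q := lift (R := R) ρ
  have hl : ∀ a : A, l (1 ⊗ₜ a) = ρ a := by
    intro a
    simp [l, lift]
  let QR : Subalgebra R Q := l.range
  have hA : ∀ a, ρ a ∈ QR := fun a => ⟨1 ⊗ₜ a, hl a⟩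
  have hfin : Module.Finite R QR :=
    Module.Finite.of_surjective l.rangeRestrict.toLinearMap l.rangeRestrict_surjective
  have htf : Submodule.torsion R QR = ⊥ := by
    rw [eq_bot_iff]
    rintro x ⟨⟨r, hr⟩, h⟩
    have h1 : (r : R) • (x : Q) = 0 := congrArg Subtype.val h
    rw [Algebra.smul_def, IsScalarTower.algebraMap_apply R K Q, ← Algebra.smul_def] at h1
    have h2 : algebraMap R K r ≠ 0 := by
      intro h0
      exact nonZeroDivisors.ne_zero hr ((IsFractionRing.injective R K) (by rw [h0, map_zero]))
    rw [smul_eq_zero] at h1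
    rcases h1 with h1 | h1
    · exact absurd h1 h2
    · exact Subtype.ext h1
  have hflat : Module.Flat R QR := Module.Flat.flat_iff_torsion_eq_bot_of_isBezout.2 htf
  have hfree : Module.Free R QR := Module.free_of_flat_of_isLocalRing
  have hfp : Module.FinitePresentation R QR := Module.finitePresentation_of_projective _ _
  have hspan : Submodule.span R (Set.range (fun a : A => (⟨ρ a, hA a⟩ : QR))) = ⊤ := by
    rw [eq_top_iff]
    rintro x -
    obtain ⟨y, rfl⟩ := l.rangeRestrict_surjective x
    induction y using TensorProduct.induction_on with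
    | zero => rw [map_zero]; exact Submodule.zero_mem _
    | add y z hy hz => rw [map_add]; exact Submodule.add_mem _ hy hz
    | tmul r a =>
      have h1 : l.rangeRestrict (r ⊗ₜ a) = r • (⟨ρ a, hA a⟩ : QR) := by
        apply Subtype.ext
        change l (r ⊗ₜ a) = r • ρ a
        rw [← hl, ← map_smul, TensorProduct.smul_tmul', smul_eq_mul, mul_one]
      rw [h1]
      exact Submodule.smul_mem _ _ (Submodule.subset_span ⟨a, rfl⟩)
  obtain ⟨κ, a, b, hb⟩ := Module.exists_basis_of_span_of_flat (R := R) (M := QR)
    (fun a : A => (⟨ρ a, hA a⟩ : QR)) hspan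
  have hbK : LinearIndependent K (fun i => ρ (a i)) := by
    rw [← LinearIndependent.iff_fractionRing (R := R)]
    have h1 := b.linearIndependent.map' QR.val.toLinearMap
      (LinearMap.ker_eq_bot.2 Subtype.val_injective)
    have h2 : (QR.val.toLinearMap ∘ b : κ → Q) = fun i => ρ (a i) := by
      funext i
      simp [hb]
    rwa [h2] at h1
  have hbs : ⊤ ≤ Submodule.span K (Set.range (fun i => ρ (a i))) := by
    rintro x -
    obtain ⟨c, rfl⟩ := hw.2 x
    refine Submodule.sum_mem _ fun j _ => Submodule.smul_mem _ _ ?_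
    have h1 : (⟨ρ (w j), hA (w j)⟩ : QR) ∈ Submodule.span R (Set.range b) := by
      rw [b.span_eq]; trivial
    have h2 := Submodule.mem_map_of_mem (f := QR.val.toLinearMap) h1
    rw [Submodule.map_span, ← Set.range_comp] at h2
    have h3 : (QR.val.toLinearMap ∘ b : κ → Q) = fun i => ρ (a i) := by
      funext i
      simp [hb]
    rw [h3] at h2
    exact Submodule.span_subset_span R K _ h2
  let bK : Module.Basis κ K Q := Module.Basis.mk hbK hbs
  have hfinK : Module.Finite K Q := Module.Finite.of_basis hw.basis
  have hκ : Finite κ := Module.Finite.finite_basis bK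
  have : Fintype κ := Fintype.ofFinite κ
  have hc : Fintype.card κ = d := by
    rw [← Module.finrank_eq_card_basis bK, Module.finrank_eq_card_basis hw.basis, Fintype.card_fin]
  let e : Fin d ≃ κ := (finCongr hc.symm).trans (Fintype.equivFin κ).symm
  refine ⟨QR, hA, fun i => a (e i), ?_, ?_⟩
  · have h1 := bas_of_basis (bK.reindex e.symm)
    have h2 : (fun i => (bK.reindex e.symm) i) = fun i => ρ (a (e i)) := by
      funext i
      rw [Module.Basis.reindex_apply, Equiv.symm_symm]
      simp [bK]
    rwa [h2] at h1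
  · have h1 := bas_of_basis (b.reindex e.symm)
    have h2 : (fun i => (b.reindex e.symm) i) = fun i => (⟨ρ (a (e i)), hA _⟩ : QR) := by
      funext i
      rw [Module.Basis.reindex_apply, Equiv.symm_symm, hb]
    rwa [h2] at h1

end K821.Val
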