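import Groth.Agent.HilbD.K821.Va
import Groth.Agent.HilbD.K821.Val
import Mathlib.AlgebraicGeometry.ValuativeCriterion

/-!
# The Hilbert scheme of points of a finite morphism is universally closed

`quasiCompact`, `universallyClosed`: for `f : X ⟶ S` finite and `(H, Z)` universal for `Hilb^d_{X/S}`.
-/

set_option autoImplicit false
set_option backward.isDefEq.respectTransparency false
universe u

open CategoryTheory CategoryTheory.Limits AlgebraicGeometry Opposite TopologicalSpace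

namespace K821.ValCrit

open Groth.Agent.Picfga.HilbChartAlg (RBas Bas rBas_iff)
open Groth.Agent.Picfga.HilbBas Groth.Agent.Picfga.HilbTriple
open K821.Retr K821.PluckSheaf K821.GenCrit K821.PtHom K821.Val

/-- Factoring a map from an affine scheme through an affine open. -/
theorem exists_factor {T : Scheme.{u}} {V : T.Opens} (hV : IsAffineOpen V) {C : CommRingCat.{u}}
    (g : Spec C ⟶ T) (h : Set.range g ⊆ V) : ∃ τ : Γ(T, V) ⟶ C, Spec.map τ ≫ hV.fromSpec = g := by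
  have h1 : Set.range g ⊆ Set.range hV.fromSpec := by rw [hV.range_fromSpec]; exact h
  refine ⟨Spec.preimage (IsOpenImmersion.lift hV.fromSpec g h1), ?_⟩
  rw [Spec.map_preimage, IsOpenImmersion.lift_fac]

theorem range_subset_of_closedPoint {S : Scheme.{u}} {R : Type u} [CommRing R] [IsLocalRing R]
    (g : Spec (CommRingCat.of R) ⟶ S) {U : S.Opens} (h : g (IsLocalRing.closedPoint R) ∈ U) :
    Set.range g ⊆ U := by
  rintro _ ⟨x, rfl⟩
  have h1 : x ⤳ IsLocalRing.closedPoint R := IsLocalRing.specializes_closedPoint x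
  exact (h1.map g.continuous).mem_open U.2 h

/-- `Val.exists_val` for homomorphisms. -/
theorem exists_val' {R K : Type u} [CommRing R] [IsDomain R] [ValuationRing R] [Field K] [Algebra R K]
    [IsFractionRing R K] {R₀ A Q : CommRingCat.{u}} (a : R₀ ⟶ A) (ha : a.hom.Finite)
    (γ : R₀ ⟶ CommRingCat.of R) (β : CommRingCat.of K ⟶ Q) (ρ : A ⟶ Q)
    (hc : a ≫ ρ = (γ ≫ CommRingCat.ofHom (algebraMap R K)) ≫ β) {d : ℕ} (w : Fin d → A)
    (hw : RBas β.hom (fun i => ρ.hom (w i))) :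
    ∃ (QR : CommRingCat.{u}) (ι : QR ⟶ Q) (βR : CommRingCat.of R ⟶ QR) (ρR : A ⟶ QR) (b : Fin d → A),
      ρR ≫ ι = ρ ∧ βR ≫ ι = CommRingCat.ofHom (algebraMap R K) ≫ β ∧ a ≫ ρR = γ ≫ βR ∧
      RBas β.hom (fun i => ρ.hom (b i)) ∧ RBas βR.hom (fun i => ρR.hom (b i)) := by
  let _ : Algebra R₀ A := a.hom.toAlgebra
  let _ : Algebra R₀ R := γ.hom.toAlgebra
  let _ : Algebra K Q := β.hom.toAlgebra
  let _ : Algebra R Q := (β.hom.comp (algebraMap R K)).toAlgebra
  let _ : Algebra R₀ Q := (a ≫ ρ).hom.toAlgebra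
  have _ : IsScalarTower R K Q := .of_algebraMap_eq (fun x => rfl)
  have _ : IsScalarTower R₀ R Q := .of_algebraMap_eq (fun x => congr($(hc).hom x))
  have _ : Module.Finite R₀ A := ha
  let ρ' : A →ₐ[R₀] Q := { ρ.hom with commutes' := fun x => rfl }
  obtain ⟨QR, hA, b, h1, h2⟩ := exists_val (R := R) (K := K) ρ' w ((rBas_iff _).1 hw)
  refine ⟨CommRingCat.of QR, CommRingCat.ofHom QR.val.toRingHom, CommRingCat.ofHom (algebraMap R QR),
    CommRingCat.ofHom (ρ.hom.codRestrict QR.toSubring hA), b, rfl, rfl, ?_, (rBas_iff _).2 h1,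
    (rBas_iff _).2 h2⟩
  refine CommRingCat.hom_ext (RingHom.ext fun x => Subtype.ext ?_)
  exact congr($(hc).hom x)

variable {X S : Scheme.{u}} {f : X ⟶ S} {d : ℕ} {H : Over S} {Z : HilbD.Obj f d H}
  [IsFinite f] (hZ : HilbD.IsUniversal f d H Z)

include hZ in
theorem existence : ValuativeCriterion.Existence H.hom := by
  intro Sq
  obtain ⟨U, hU, hsU, -⟩ := exists_isAffineOpen_mem_and_subset (X := S)
    (x := Sq.i₂ (IsLocalRing.closedPoint Sq.R)) (U := ⊤) trivial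
  have hrange := range_subset_of_closedPoint Sq.i₂ hsU
  obtain ⟨γR, hγR⟩ := exists_factor hU Sq.i₂ hrange
  have hw : Sq.i₁ ≫ H.hom = Spec.map (CommRingCat.ofHom (algebraMap Sq.R Sq.K)) ≫ Sq.i₂ := Sq.commSq.w
  let y : H.left := Sq.i₁ (IsLocalRing.closedPoint Sq.K)
  have hy : y ∈ H.hom ⁻¹ᵁ U := by
    change H.hom y ∈ U
    have : H.hom y = Sq.i₂ (Spec.map (CommRingCat.ofHom (algebraMap Sq.R Sq.K))
        (IsLocalRing.closedPoint Sq.K)) := congr($hw (IsLocalRing.closedPoint Sq.K))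
    rw [this]
    exact hrange ⟨_, rfl⟩
  obtain ⟨w, V, hV, hVa, hyV, hgood⟩ := exists_good (pi f Z.1) (qq_comp f Z.1) Z.2 hU
    (fun c : Γ(X, f ⁻¹ᵁ U) => c) (by
      intro _
      rw [Set.range_id', Submodule.span_univ]) y hy
  obtain ⟨τ, hτ⟩ := exists_factor hVa Sq.i₁ (range_subset_of_closedPoint Sq.i₁ hyV)
  -- the point over `K`
  obtain ⟨Q, κ, β, hpo⟩ : ∃ (Q : CommRingCat.{u}) (κ : Γ(Z.1.subscheme, (pi f Z.1) ⁻¹ᵁ V) ⟶ Q)
      (β : CommRingCat.of Sq.K ⟶ Q), IsPushout ((pi f Z.1).app V) τ κ β :=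
    ⟨_, _, _, IsPushout.of_hasPushout _ _⟩
  have hbas := rBas_of_isPushout _ hpo hgood
  let ρ : Γ(X, f ⁻¹ᵁ U) ⟶ Q := rho (qq_comp f Z.1) hV ≫ κ
  have hγK : H.hom.appLE U V hV ≫ τ = γR ≫ CommRingCat.ofHom (algebraMap Sq.R Sq.K) := by
    apply Spec.map_injective
    rw [← cancel_mono hU.fromSpec, Spec.map_comp_assoc, Spec.map_comp_assoc, hγR,
      hU.SpecMap_appLE_fromSpec H.hom hVa hV, ← Category.assoc, hτ, hw]
  have hc : f.app U ≫ ρ = (γR ≫ CommRingCat.ofHom (algebraMap Sq.R Sq.K)) ≫ β := by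
    rw [← Category.assoc, app_rho, Category.assoc, hpo.w, ← Category.assoc, hγK]
  have hm : IsPullback (Spec.map κ ≫ (hVa.preimage (pi f Z.1)).fromSpec) (Spec.map β) (pi f Z.1) Sq.i₁ := by
    rw [← hτ]
    exact (isPullback_SpecMap_of_isPushout _ _ _ _ hpo).paste_horiz
      (K147.AffPull.isPullback_fromSpec (pi f Z.1) hVa)
  have hmq : (Spec.map κ ≫ (hVa.preimage (pi f Z.1)).fromSpec) ≫ qq f Z.1 =
      Spec.map ρ ≫ (hU.preimage f).fromSpec := by
    rw [Category.assoc, Spec.map_comp_assoc]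
    congr 1
    exact ((hU.preimage f).SpecMap_appLE_fromSpec (qq f Z.1) (hVa.preimage (pi f Z.1)) _).symm
  obtain ⟨QR, ι, βR, ρR, b, e1, e2, e3, hbK, hbR⟩ := exists_val' (f.app U) (IsFinite.finite_app f U hU) γR β ρ hc
    w hbas
  obtain ⟨g, m', hg1, hg2, hg3⟩ := exists_pt hZ hU γR βR ρR e3 b hbR
  have hpoR : IsPushout βR (CommRingCat.ofHom (algebraMap Sq.R Sq.K)) ι β := by
    refine isPushout_of_rBas _ e2 hbR ?_
    have : ∀ i, ι.hom (ρR.hom (b i)) = ρ.hom (b i) := fun i => congr(($e1).hom (b i))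
    simp only [this]
    exact hbK
  have hfac : Spec.map (CommRingCat.ofHom (algebraMap Sq.R Sq.K)) ≫ g = Sq.i₁ := by
    refine hom_ext hZ _ _ ?_ (Spec.map β) (Spec.map ι ≫ m') _ ?_ hm ?_
    · rw [Category.assoc, hg1, hγR, hw]
    · exact (isPullback_SpecMap_of_isPushout _ _ _ _ hpoR).paste_horiz hg2
    · rw [hmq, Category.assoc, hg3, ← Spec.map_comp_assoc, e1]
  exact ⟨⟨⟨g, hfac, by rw [hg1, hγR]⟩⟩⟩

end K821.ValCrit
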